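import Cfsg.Agent.H10.GlauRep2

set_option autoImplicit false

/-! Replacement property of families (owner: helper10). -/

namespace Cfsg.Agent.H10

open Subgroup

variable {S : Type*} [Group S]

theorem exists_normalized [Finite S] {p : ℕ} [hp : Fact p.Prime] (hS : IsPGroup p S) (hp2 : p ≠ 2)
    (Q : Subgroup S → Prop) (hQab : ∀ A, Q A → ∀ x ∈ A, ∀ y ∈ A, x * y = y * x)
    (B : Subgroup S) [hB : B.Normal] (hQ : ∀ A b, Q A → GRData p A B b → Q (Astar A b))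
    (hU : ∃ U, Q U ∧ ⁅B, B⁆ ≤ U ∧ ¬ B ≤ U) :
    ∃ A, Q A ∧ ⁅B, B⁆ ≤ A ∧ ¬ B ≤ A ∧ B ≤ normalizer (A : Set S) := by
  have hfin : ({A : Subgroup S | Q A ∧ ⁅B, B⁆ ≤ A ∧ ¬ B ≤ A}).Finite := Set.toFinite _
  obtain ⟨A, hA, hmax⟩ := Set.exists_max_image _ (fun A : Subgroup S => Nat.card (A ⊓ B : Subgroup S))
    hfin hU
  refine ⟨A, hA.1, hA.2.1, hA.2.2, ?_⟩
  by_contra hnot
  obtain ⟨b, hb, hb1, hb2⟩ := Cfsg.Agent.ZJ.exists_replacement_element (p := p) (S := ⊤) (B := B) (A := A)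
    (hS.to_subgroup ⊤) le_top hnot
  rw [inf_top_eq] at hb2
  have h : GRData p A B b := ⟨hS, hB, fun h => absurd h hp2, hQab A hA.1, hA.2.1, hb, hb2, hb1⟩
  have h1 := hmax (Astar A b) ⟨hQ A b hA.1 h, h.derived_le_Astar, fun hle => by
    have := h.inf_B_lt_B
    rw [inf_eq_right.mpr hle] at this
    exact lt_irrefl _ this⟩
  have h2 := h.inf_B_lt
  have h3 := Subgroup.eq_of_le_of_card_ge h2.le h1
  exact h2.ne h3

theorem Astar_le_of_normal {A D : Subgroup S} [hD : D.Normal] (hAD : A ≤ D) (b : S) :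
    Astar A b ≤ D := by
  apply sup_le (inf_le_left.trans hAD)
  rw [closure_le]
  rintro _ ⟨a, ha, rfl⟩
  have e : a * b⁻¹ * a⁻¹ * b = a * (b⁻¹ * a⁻¹ * b⁻¹⁻¹) := by group
  rw [e]
  exact mul_mem (hAD ha) (hD.conj_mem _ (inv_mem (hAD ha)) b⁻¹)

theorem card_subgroupOf_of_le {A D : Subgroup S} (h : A ≤ D) : Nat.card (A.subgroupOf D) = Nat.card A :=
  Nat.card_congr (Subgroup.subgroupOfEquivOfLe h).toEquiv

end Cfsg.Agent.H10
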