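import Cfsg.Agent.H10.Imports

set_option autoImplicit false

namespace Cfsg.Agent.H10

/-- A normal Hall subgroup contains all elements whose order divides its order. -/
theorem mem_of_orderOf_dvd_of_normal_hall {G : Type*} [Group G] [Finite G] (N : Subgroup G)
    [N.Normal] (hN : (Nat.card N).Coprime N.index) {x : G} (hx : orderOf x ∣ Nat.card N) : x ∈ N := by
  rw [← QuotientGroup.eq_one_iff, ← orderOf_eq_one_iff]
  have h1 : orderOf (x : G ⧸ N) ∣ orderOf x := orderOf_map_dvd (QuotientGroup.mk' N) x
  have h2 : orderOf (x : G ⧸ N) ∣ N.index := by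
    rw [Subgroup.index_eq_card]; exact orderOf_dvd_natCard _
  exact Nat.eq_one_of_dvd_coprimes hN (h1.trans hx) h2

/-- A normal Hall subgroup contains all subgroups whose order divides its order. -/
theorem le_of_card_dvd_of_normal_hall {G : Type*} [Group G] [Finite G] (N : Subgroup G)
    [N.Normal] (hN : (Nat.card N).Coprime N.index) {K : Subgroup G} (hx : Nat.card K ∣ Nat.card N) :
    K ≤ N := fun x hxK =>
  mem_of_orderOf_dvd_of_normal_hall N hN ((Subgroup.orderOf_dvd_natCard K hxK).trans hx)

theorem characteristic_of_normal_hall {G : Type*} [Group G] [Finite G] (N : Subgroup G)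
    [N.Normal] (hN : (Nat.card N).Coprime N.index) : N.Characteristic := by
  rw [Subgroup.characteristic_iff_map_le]
  rintro φ _ ⟨x, hx, rfl⟩
  apply mem_of_orderOf_dvd_of_normal_hall N hN
  change orderOf (φ x) ∣ _
  rw [MulEquiv.orderOf_eq]
  exact Subgroup.orderOf_dvd_natCard N hx

end Cfsg.Agent.H10
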