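import Cfsg.Agent.H75.Tools
import Cfsg.Agent.CharBase.Basic
import Cfsg.Agent.CharBase.Ortho
import Cfsg.Agent.CharBase.Column
import Cfsg.Agent.Char.FrobTI
import Cfsg.Agent.FrobThm.Basic

/-!
# Values of an irreducible character on the elements of order `p` when `p² ∤ |G|` (helper10)
-/

set_option autoImplicit false
set_option linter.unusedSectionVars false

namespace Cfsg.Agent.H10.PrimeClass

open scoped ComplexConjugate Pointwise
open Cfsg Cfsg.Agent.CharBase

universe u

section Pow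

variable {G : Type u} [Group G] {p : ℕ} [hp : Fact p.Prime]

/-- powers indexed by the units modulo `p` -/
def xp (x : G) (c : (ZMod p)ˣ) : G := x ^ ((c : ZMod p).val)

theorem xp_eq_of_nat {x : G} (hx : orderOf x = p) (n : ℕ) (c : (ZMod p)ˣ) (h : (n : ZMod p) = c) :
    x ^ n = xp x c := by
  unfold xp
  rw [pow_eq_pow_iff_modEq, hx, ← ZMod.natCast_eq_natCast_iff, ZMod.natCast_val, ZMod.cast_id', id, h]

theorem xp_one {x : G} (hx : orderOf x = p) : xp x (1 : (ZMod p)ˣ) = x := by
  rw [← xp_eq_of_nat hx 1 1 (by simp), pow_one]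

theorem orderOf_xp {x : G} (hx : orderOf x = p) (c : (ZMod p)ˣ) : orderOf (xp x c) = p := by
  have hx0 : orderOf x ≠ 0 := by rw [hx]; exact hp.out.ne_zero
  unfold xp
  have h1 : ((c : ZMod p).val) ≠ 0 := by
    rw [Ne, ZMod.val_eq_zero]
    exact c.ne_zero
  rw [orderOf_pow' x h1, hx]
  have h2 : Nat.Coprime p ((c : ZMod p).val) := by
    rw [Nat.Prime.coprime_iff_not_dvd hp.out]
    intro h
    have := ZMod.val_lt (c : ZMod p)
    exact absurd (Nat.le_of_dvd (Nat.pos_of_ne_zero h1) h) (by omega)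
  rw [h2, Nat.div_one]

theorem xp_xp {x : G} (hx : orderOf x = p) (b c : (ZMod p)ˣ) : xp (xp x b) c = xp x (b * c) := by
  rw [← xp_eq_of_nat hx (((b : ZMod p).val) * ((c : ZMod p).val)) (b * c) (by simp)]
  unfold xp
  rw [pow_mul]

theorem xp_inv {x : G} (hx : orderOf x = p) (c : (ZMod p)ˣ) : (xp x c)⁻¹ = xp x (-c) := by
  rw [inv_eq_iff_mul_eq_one]
  unfold xp
  rw [← pow_add, ← orderOf_dvd_iff_pow_eq_one, hx, ← ZMod.natCast_eq_zero_iff]
  simp

theorem xp_conj (x t : G) (c : (ZMod p)ˣ) : xp (t * x * t⁻¹) c = t * xp x c * t⁻¹ := by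
  unfold xp
  rw [conj_pow]

theorem isConj_xp {x y : G} (h : IsConj x y) (c : (ZMod p)ˣ) : IsConj (xp x c) (xp y c) := by
  obtain ⟨t, rfl⟩ := isConj_iff.1 h
  rw [xp_conj]
  exact isConj_iff.2 ⟨t, rfl⟩

theorem xp_inj {x : G} (hx : orderOf x = p) {b c : (ZMod p)ˣ} (h : xp x b = xp x c) : b = c := by
  unfold xp at h
  rw [pow_eq_pow_iff_modEq, hx, ← ZMod.natCast_eq_natCast_iff, ZMod.natCast_val, ZMod.natCast_val,
    ZMod.cast_id', id, id] at h
  exact Units.ext h

theorem xp_mem_zpowers (x : G) (c : (ZMod p)ˣ) : xp x c ∈ Subgroup.zpowers x :=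
  Subgroup.npow_mem_zpowers x _

theorem exists_xp_of_mem {x y : G} (hx : orderOf x = p) (hy : orderOf y = p) (h : y ∈ Subgroup.zpowers x) :
    ∃ a : (ZMod p)ˣ, y = xp x a := by
  have hfin : IsOfFinOrder x := by rw [← orderOf_pos_iff, hx]; exact hp.out.pos
  obtain ⟨n, hn⟩ := (hfin.mem_powers_iff_mem_zpowers.2 h : y ∈ Submonoid.powers x)
  have hn' : x ^ n = y := hn
  have h1 : (n : ZMod p) ≠ 0 := by
    intro h0
    rw [ZMod.natCast_eq_zero_iff] at h0
    have h2 : y = 1 := by rw [← hn', ← orderOf_dvd_iff_pow_eq_one, hx]; exact h0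
    rw [h2, orderOf_one] at hy
    exact hp.out.one_lt.ne hy
  exact ⟨Units.mk0 _ h1, by rw [← hn']; exact xp_eq_of_nat hx n _ rfl⟩

/-- the units `b` with `x` conjugate to `x^b` -/
def autS (p : ℕ) [hp : Fact p.Prime] (x : G) (hx : orderOf x = p) : Subgroup (ZMod p)ˣ where
  carrier := {b | IsConj x (xp x b)}
  one_mem' := by
    show IsConj x (xp x 1)
    rw [xp_one hx]
  mul_mem' := by
    intro a b ha hb
    show IsConj x (xp x (a * b))
    have h1 : IsConj x (xp x a) := ha
    have h2 : IsConj (xp x b) (xp (xp x a) b) := isConj_xp h1 b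
    rw [xp_xp hx] at h2
    exact IsConj.trans hb h2
  inv_mem' := by
    intro a ha
    show IsConj x (xp x a⁻¹)
    have h2 : IsConj (xp x a⁻¹) (xp (xp x a) a⁻¹) := isConj_xp ha a⁻¹
    rw [xp_xp hx, mul_inv_cancel, xp_one hx] at h2
    exact h2.symm

theorem mem_autS {x : G} {hx : orderOf x = p} {b : (ZMod p)ˣ} : b ∈ autS p x hx ↔ IsConj x (xp x b) := Iff.rfl

theorem isConj_or_inv {x : G} (hx : orderOf x = p)
    (he : Nat.card (autS p x hx) = p - 1 ∨ (2 * Nat.card (autS p x hx) = p - 1 ∧ Odd (Nat.card (autS p x hx))))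
    (b : (ZMod p)ˣ) : IsConj x (xp x b) ∨ IsConj x (xp x b)⁻¹ := by
  have hc : Nat.card (ZMod p)ˣ = p - 1 := by
    rw [Nat.card_eq_fintype_card, ZMod.card_units]
  have hidx := Subgroup.card_mul_index (autS p x hx)
  rw [hc] at hidx
  have hp1 : 0 < p - 1 := by have := hp.out.one_lt; omega
  rcases he with he | ⟨he, hodd⟩
  · left
    have : autS p x hx = ⊤ := by
      rw [← Subgroup.card_eq_iff_eq_top, hc, he]
    rw [← mem_autS (hx := hx), this]
    exact Subgroup.mem_top _
  · have h2 : (autS p x hx).index = 2 := by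
      have h3 : Nat.card (autS p x hx) * (autS p x hx).index = Nat.card (autS p x hx) * 2 := by
        rw [hidx, ← he, mul_comm]
      exact Nat.eq_of_mul_eq_mul_left Nat.card_pos h3
    by_cases hb : b ∈ autS p x hx
    · exact Or.inl hb
    · right
      rw [xp_inv hx, ← mem_autS (hx := hx)]
      have hne : (-1 : (ZMod p)ˣ) ∉ autS p x hx := by
        intro hm
        have ho : orderOf (⟨-1, hm⟩ : autS p x hx) = 2 := by
          rw [Subgroup.orderOf_mk]
          apply orderOf_eq_prime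
          · simp
          · intro h1
            have h3 : ((-1 : (ZMod p)ˣ) : ZMod p) = 1 := by rw [h1]; rfl
            have h4 : p = 2 := by
              have h5 : ((2 : ℕ) : ZMod p) = 0 := by
                push_cast
                have : (-1 : ZMod p) = 1 := by simpa using h3
                linear_combination -this
              rw [ZMod.natCast_eq_zero_iff] at h5
              exact (Nat.prime_dvd_prime_iff_eq hp.out Nat.prime_two).1 h5
            subst h4
            omega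
        have h6 := orderOf_dvd_natCard (⟨-1, hm⟩ : autS p x hx)
        rw [ho] at h6
        exact (Nat.not_even_iff_odd.2 hodd) (even_iff_two_dvd.2 h6)
      have h7 := (Subgroup.mul_mem_iff_of_index_two h2 (a := (-1 : (ZMod p)ˣ)) (b := b)).2
        ⟨fun h => absurd h hne, fun h => absurd h hb⟩
      simpa using h7

end Pow

section Group

variable {G : Type u} [Group G] [Finite G] {p : ℕ} [hp : Fact p.Prime]

theorem card_sylow_eq (hp2 : ¬ p ^ 2 ∣ Nat.card G) {x : G} (hx : orderOf x = p) (P : Sylow p G)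
    (hxP : x ∈ (P : Subgroup G)) : (P : Subgroup G) = Subgroup.zpowers x := by
  have h1 : Nat.card (Subgroup.zpowers x) = p := by rw [Nat.card_zpowers, hx]
  have h2 : Nat.card (P : Subgroup G) = p := by
    obtain ⟨n, hn⟩ := IsPGroup.iff_card.1 P.isPGroup'
    have h3 : p ∣ Nat.card (P : Subgroup G) :=
      dvd_trans (dvd_of_eq h1.symm) (Subgroup.card_dvd_of_le ((Subgroup.zpowers_le).2 hxP))
    have h4 : n ≠ 0 := by
      rintro rfl
      rw [hn, pow_zero, Nat.dvd_one] at h3
      exact hp.out.one_lt.ne' h3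
    have h5 : n < 2 := by
      by_contra h
      exact hp2 ((pow_dvd_pow p (not_lt.1 h)).trans (hn ▸ Subgroup.card_subgroup_dvd_card _))
    have : n = 1 := by omega
    rw [hn, this, pow_one]
  exact (Subgroup.eq_of_le_of_card_ge ((Subgroup.zpowers_le).2 hxP) (by rw [h1, h2])).symm

theorem exists_isConj_xp (hp2 : ¬ p ^ 2 ∣ Nat.card G) {x y : G} (hx : orderOf x = p) (hy : orderOf y = p) :
    ∃ b : (ZMod p)ˣ, IsConj (xp x b) y := by
  have hpg : ∀ z : G, orderOf z = p → ∃ P : Sylow p G, z ∈ (P : Subgroup G) := by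
    intro z hz
    have : IsPGroup p (Subgroup.zpowers z) := IsPGroup.of_card (n := 1) (by rw [Nat.card_zpowers, hz, pow_one])
    obtain ⟨P, hP⟩ := this.exists_le_sylow
    exact ⟨P, hP (Subgroup.mem_zpowers z)⟩
  obtain ⟨P, hP⟩ := hpg x hx
  obtain ⟨Q, hQ⟩ := hpg y hy
  obtain ⟨g, hg⟩ := MulAction.exists_smul_eq G P Q
  have h2 : g⁻¹ * y * g ∈ (P : Subgroup G) := by
    rw [← hg] at hQ
    have h2' := Subgroup.mem_pointwise_smul_iff_inv_smul_mem.1 (show y ∈ MulAut.conj g • (P : Subgroup G) from hQ)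
    rw [← map_inv, MulAut.smul_def, MulAut.conj_apply, inv_inv] at h2'
    exact h2'
  rw [card_sylow_eq hp2 hx P hP] at h2
  have h3 : orderOf (g⁻¹ * y * g) = p := by
    have h4 := orderOf_injective (MulAut.conj g⁻¹).toMonoidHom (MulAut.conj g⁻¹).injective y
    have h5 : (MulAut.conj g⁻¹).toMonoidHom y = g⁻¹ * y * g := by
      show g⁻¹ * y * g⁻¹⁻¹ = _
      rw [inv_inv]
    rw [h5] at h4
    rw [h4, hy]
  obtain ⟨b, hb⟩ := exists_xp_of_mem hx h3 h2
  exact ⟨b, by rw [← hb]; exact isConj_iff.2 ⟨g, by group⟩⟩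

theorem centralizer_xp {x : G} (hx : orderOf x = p) (b : (ZMod p)ˣ) :
    Subgroup.centralizer ({xp x b} : Set G) = Subgroup.centralizer ({x} : Set G) := by
  apply le_antisymm
  · intro g hg
    rw [Subgroup.mem_centralizer_singleton_iff] at hg ⊢
    have h1 : xp (xp x b) b⁻¹ = x := by rw [xp_xp hx, mul_inv_cancel, xp_one hx]
    have h2 : Commute g (xp (xp x b) b⁻¹) := by
      unfold xp
      exact Commute.pow_right hg _
    rw [h1] at h2
    exact h2
  · intro g hg
    rw [Subgroup.mem_centralizer_singleton_iff] at hg ⊢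
    exact Commute.pow_right hg _

theorem card_fiber (hp2 : ¬ p ^ 2 ∣ Nat.card G) {x : G} (hx : orderOf x = p) {g : G} (hg : orderOf g = p) :
    Nat.card {b : (ZMod p)ˣ // IsConj (xp x b) g} = Nat.card (autS p x hx) := by
  obtain ⟨b0, hb0⟩ := exists_isConj_xp hp2 hx hg
  have key : ∀ b : (ZMod p)ˣ, IsConj (xp x b) g ↔ b⁻¹ * b0 ∈ autS p x hx := by
    intro b
    rw [mem_autS]
    constructor
    · intro h
      have h1 : IsConj (xp x b) (xp x b0) := h.trans hb0.symm
      have h2 := isConj_xp h1 b⁻¹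
      rwa [xp_xp hx, xp_xp hx, mul_inv_cancel, xp_one hx, mul_comm b0] at h2
    · intro h
      have h2 := isConj_xp h b
      rw [xp_xp hx, mul_comm b⁻¹ b0, mul_assoc, inv_mul_cancel, mul_one] at h2
      exact h2.trans hb0
  refine Nat.card_congr (Equiv.ofBijective (fun b : {b : (ZMod p)ˣ // IsConj (xp x b) g} =>
    (⟨b.1⁻¹ * b0, (key b.1).1 b.2⟩ : autS p x hx)) ⟨?_, ?_⟩)
  · intro b c hbc
    have h1 : b.1⁻¹ * b0 = c.1⁻¹ * b0 := congrArg Subtype.val hbc
    exact Subtype.ext (inv_injective (mul_right_cancel h1))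
  · rintro ⟨a, ha⟩
    refine ⟨⟨b0 * a⁻¹, (key _).2 ?_⟩, ?_⟩
    · rw [mul_inv_rev, inv_inv, mul_assoc, inv_mul_cancel, mul_one]; exact ha
    · apply Subtype.ext
      show (b0 * a⁻¹)⁻¹ * b0 = a
      rw [mul_inv_rev, inv_inv, mul_assoc, inv_mul_cancel, mul_one]

theorem card_order_mul (hp2 : ¬ p ^ 2 ∣ Nat.card G) {x : G} (hx : orderOf x = p) :
    Nat.card {g : G // orderOf g = p} * (Nat.card (autS p x hx) * Nat.card (Subgroup.centralizer ({x} : Set G))) =
      (p - 1) * Nat.card G := by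
  classical
  have := Fintype.ofFinite G
  let A := {q : (ZMod p)ˣ × G // IsConj (xp x q.1) q.2}
  have hord : ∀ b : (ZMod p)ˣ, ∀ g : G, IsConj (xp x b) g → orderOf g = p := by
    intro b g h
    obtain ⟨c, hc⟩ := isConj_iff.1 h
    rw [← hc]
    exact (orderOf_injective (MulAut.conj c).toMonoidHom (MulAut.conj c).injective (xp x b)).trans (orderOf_xp hx b)
  have h1 : Nat.card A * Nat.card (Subgroup.centralizer ({x} : Set G)) = (p - 1) * Nat.card G := by
    have e1 : A ≃ Σ b : (ZMod p)ˣ, {g : G // IsConj (xp x b) g} :=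
      ⟨fun q => ⟨q.1.1, q.1.2, q.2⟩, fun s => ⟨(s.1, s.2.1), s.2.2⟩, fun _ => rfl, fun _ => rfl⟩
    rw [Nat.card_congr e1, Nat.card_sigma, Finset.sum_mul]
    have h2 : ∀ b : (ZMod p)ˣ, Nat.card {g : G // IsConj (xp x b) g} *
        Nat.card (Subgroup.centralizer ({x} : Set G)) = Nat.card G := by
      intro b
      rw [← centralizer_xp hx b]
      exact card_isConj_mul_card_centralizer _
    rw [Finset.sum_congr rfl (fun b _ => h2 b), Finset.sum_const, Finset.card_univ, ZMod.card_units, smul_eq_mul]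
  have h3 : Nat.card A = Nat.card {g : G // orderOf g = p} * Nat.card (autS p x hx) := by
    have e2 : A ≃ Σ g : {g : G // orderOf g = p}, {b : (ZMod p)ˣ // IsConj (xp x b) g.1} :=
      ⟨fun q => ⟨⟨q.1.2, hord _ _ q.2⟩, q.1.1, q.2⟩, fun s => ⟨(s.2.1, s.1.1), s.2.2⟩, fun _ => rfl, fun _ => rfl⟩
    rw [Nat.card_congr e2, Nat.card_sigma, Finset.sum_congr rfl (fun g _ => card_fiber hp2 hx g.2), Finset.sum_const,
      Finset.card_univ, smul_eq_mul, ← Nat.card_eq_fintype_card]
  rw [← mul_assoc, ← h3, h1]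

theorem dvd_card_order_add_one (hpG : p ∣ Nat.card G) : p ∣ Nat.card {g : G // orderOf g = p} + 1 := by
  classical
  have := Fintype.ofFinite G
  have h1 := Cfsg.Agent.FrobThm.dvd_card_pow_eq_one (G := G) p hpG
  have h2 : Nat.card {g : G // g ^ p = 1} = Nat.card {g : G // orderOf g = p} + 1 := by
    have e : {g : G // g ^ p = 1} ≃ Option {g : G // orderOf g = p} := by
      refine ⟨fun g => if h : g.1 = 1 then none else some ⟨g.1, orderOf_eq_prime g.2 h⟩,
        fun o => match o with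
          | none => ⟨1, one_pow p⟩
          | some g => ⟨g.1, by rw [← orderOf_dvd_iff_pow_eq_one, g.2]⟩, ?_, ?_⟩
      · intro g
        by_cases h : g.1 = 1
        · simp only [h, dif_pos]
          exact Subtype.ext h.symm
        · simp only [dif_neg h]
      · intro o
        rcases o with _ | ⟨g, hg⟩
        · simp
        · have h : g ≠ 1 := by
            rintro rfl
            rw [orderOf_one] at hg
            exact hp.out.one_lt.ne hg
          simp only [dif_neg h]
    rw [Nat.card_congr e, Nat.card_eq_fintype_card, Nat.card_eq_fintype_card, Fintype.card_option]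
  rwa [h2] at h1

theorem autS_mod (hp2 : ¬ p ^ 2 ∣ Nat.card G) {x : G} (hx : orderOf x = p) {m c : ℕ} (hm : Nat.card G = p * m)
    (hc : Nat.card (Subgroup.centralizer ({x} : Set G)) = p * c) :
    Nat.card (autS p x hx) * c ≡ m [MOD p] := by
  have h1 := card_order_mul hp2 hx
  rw [hc, hm] at h1
  have h2 : Nat.card {g : G // orderOf g = p} * (Nat.card (autS p x hx) * c) = (p - 1) * m := by
    have : p * (Nat.card {g : G // orderOf g = p} * (Nat.card (autS p x hx) * c)) = p * ((p - 1) * m) := by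
      calc _ = Nat.card {g : G // orderOf g = p} * (Nat.card (autS p x hx) * (p * c)) := by ring
        _ = _ := by rw [h1]; ring
    exact Nat.eq_of_mul_eq_mul_left hp.out.pos this
  have h3 : p ∣ Nat.card {g : G // orderOf g = p} + 1 :=
    dvd_card_order_add_one (by rw [hm]; exact dvd_mul_right _ _)
  rw [← ZMod.natCast_eq_natCast_iff]
  have h4 : ((Nat.card {g : G // orderOf g = p} : ℕ) : ZMod p) = -1 := by
    have := (ZMod.natCast_eq_zero_iff _ _).2 h3
    push_cast at this
    linear_combination this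
  have h5 := congrArg (Nat.cast : ℕ → ZMod p) h2
  rw [Nat.cast_mul, h4, Nat.cast_mul (p - 1) m, Nat.cast_sub hp.out.one_lt.le] at h5
  simp only [CharP.cast_eq_zero, Nat.cast_one, zero_sub] at h5
  linear_combination -h5

end Group

section Char

variable {G : Type u} [Group G] [Finite G] {p : ℕ} [hp : Fact p.Prime]

/-- the sum of a class function over the subgroup generated by an element of order `p` -/
theorem sum_zpowers {x : G} (hx : orderOf x = p) (f : G → ℂ) [Fintype (Subgroup.zpowers x)] :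
    ∑ h : Subgroup.zpowers x, f h = f 1 + ∑ b : (ZMod p)ˣ, f (xp x b) := by
  classical
  have h1 : ∑ h : Subgroup.zpowers x, f h = ∑ c : ZMod p, f (x ^ c.val) := by
    symm
    refine Fintype.sum_bijective (fun c : ZMod p => (⟨x ^ c.val, Subgroup.npow_mem_zpowers x _⟩ : Subgroup.zpowers x))
      ?_ _ _ (fun _ => rfl)
    rw [Fintype.bijective_iff_injective_and_card]
    constructor
    · intro a b hab
      have h2 : x ^ a.val = x ^ b.val := congrArg Subtype.val hab
      rw [pow_eq_pow_iff_modEq, hx, ← ZMod.natCast_eq_natCast_iff, ZMod.natCast_val, ZMod.natCast_val,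
        ZMod.cast_id', id, id] at h2
      exact h2
    · rw [ZMod.card, ← Nat.card_eq_fintype_card, Nat.card_zpowers, hx]
  rw [h1]
  have h2 : ∑ b : (ZMod p)ˣ, f (xp x b) = ∑ c ∈ Finset.univ.erase (0 : ZMod p), f (x ^ c.val) := by
    refine Finset.sum_bij (fun (b : (ZMod p)ˣ) _ => (b : ZMod p)) ?_ ?_ ?_ ?_
    · intro b _
      exact Finset.mem_erase.2 ⟨b.ne_zero, Finset.mem_univ _⟩
    · intro a _ b _ h
      exact Units.ext h
    · intro c hc
      exact ⟨Units.mk0 c (Finset.ne_of_mem_erase hc), Finset.mem_univ _, rfl⟩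
    · intro b _
      rfl
  rw [h2, ← Finset.add_sum_erase _ _ (Finset.mem_univ (0 : ZMod p)), ZMod.val_zero, pow_zero]

/-- `χ x` or its conjugate is the value of `χ` at every element of order `p` -/
theorem char_eq_or (hp2 : ¬ p ^ 2 ∣ Nat.card G) {χ : G → ℂ} (hχ : IsCharacter G χ) {x : G} (hx : orderOf x = p)
    (he : Nat.card (autS p x hx) = p - 1 ∨ (2 * Nat.card (autS p x hx) = p - 1 ∧ Odd (Nat.card (autS p x hx))))
    {g : G} (hg : orderOf g = p) : χ g = χ x ∨ χ g = conj (χ x) := by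
  obtain ⟨b, hb⟩ := exists_isConj_xp hp2 hx hg
  have hcf := isClassFunction_of_isCharacter hχ
  rcases isConj_or_inv hx he b with h | h
  · left
    exact (classFun_eq_of_isConj hcf (h.trans hb)).symm
  · right
    rw [← isCharacter_inv hχ x]
    have h1 : IsConj x⁻¹ (xp x b) := by
      obtain ⟨c, hc⟩ := isConj_iff.1 h
      refine isConj_iff.2 ⟨c, ?_⟩
      rw [← inv_inv (xp x b), ← hc]; group
    exact (classFun_eq_of_isConj hcf (h1.trans hb)).symm

theorem exists_normSq (hp2 : ¬ p ^ 2 ∣ Nat.card G) {χ : G → ℂ} (hχ : IsCharacter G χ) {d : ℕ} (hd : χ 1 = d)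
    {x : G} (hx : orderOf x = p)
    (he : Nat.card (autS p x hx) = p - 1 ∨ (2 * Nat.card (autS p x hx) = p - 1 ∧ Odd (Nat.card (autS p x hx)))) :
    ∃ N : ℕ, (∀ g : G, orderOf g = p → Complex.normSq (χ g) = N) ∧ N ≡ d ^ 2 [MOD p] := by
  classical
  have := Fintype.ofFinite G
  have : Fintype (Subgroup.zpowers x) := Fintype.ofFinite _
  have hconst : ∀ g : G, orderOf g = p → Complex.normSq (χ g) = Complex.normSq (χ x) := by
    intro g hg
    rcases char_eq_or hp2 hχ hx he hg with h | h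
    · rw [h]
    · rw [h, Complex.normSq_conj]
  obtain ⟨m, hm⟩ := classInner_natCast (isCharacter_restrict hχ (Subgroup.zpowers x))
    (isCharacter_restrict hχ (Subgroup.zpowers x))
  unfold classInner at hm
  have hcard : (Nat.card (Subgroup.zpowers x) : ℂ) = p := by rw [Nat.card_zpowers, hx]
  have hp0 : (p : ℂ) ≠ 0 := by exact_mod_cast hp.out.ne_zero
  rw [hcard, sum_zpowers hx (fun g => χ g * conj (χ g))] at hm
  have h1 : ∑ b : (ZMod p)ˣ, χ (xp x b) * conj (χ (xp x b)) = ((p : ℂ) - 1) * (Complex.normSq (χ x) : ℂ) := by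
    have : ∀ b : (ZMod p)ˣ, χ (xp x b) * conj (χ (xp x b)) = (Complex.normSq (χ x) : ℂ) := by
      intro b
      rw [Complex.mul_conj, hconst _ (orderOf_xp hx b)]
    rw [Finset.sum_congr rfl (fun b _ => this b), Finset.sum_const, Finset.card_univ, ZMod.card_units, nsmul_eq_mul,
      Nat.cast_sub hp.out.one_lt.le, Nat.cast_one]
  rw [h1, hd, Complex.conj_natCast] at hm
  have hp1 : ((p : ℂ) - 1) ≠ 0 := by
    rw [sub_ne_zero]
    exact_mod_cast hp.out.one_lt.ne'
  have h2 : ((p : ℂ) - 1) * (Complex.normSq (χ x) : ℂ) = p * m - d ^ 2 := by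
    field_simp at hm
    linear_combination hm
  have h3 : (Complex.normSq (χ x) : ℂ) = ((((p : ℚ) * m - d ^ 2) / (p - 1) : ℚ) : ℂ) := by
    push_cast
    rw [eq_div_iff hp1, mul_comm, h2]
  have h4 : IsIntegral ℤ ((Complex.normSq (χ x) : ℂ)) := by
    rw [← Complex.mul_conj, ← isCharacter_inv hχ]
    exact (isIntegral_of_isCharacter hχ x).mul (isIntegral_of_isCharacter hχ _)
  obtain ⟨z, hz⟩ := Cfsg.Agent.Char.FT.int_of_rat_isIntegral _ h3 h4
  have h5 : Complex.normSq (χ x) = z := by exact_mod_cast hz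
  have h6 : 0 ≤ z := by
    have := Complex.normSq_nonneg (χ x)
    rw [h5] at this
    exact_mod_cast this
  obtain ⟨N, rfl⟩ := Int.eq_ofNat_of_zero_le h6
  refine ⟨N, fun g hg => by rw [hconst g hg, h5]; norm_cast, ?_⟩
  rw [hz] at h2
  have h7 : ((p : ℤ) - 1) * N = p * m - d ^ 2 := by exact_mod_cast h2
  rw [← Int.natCast_modEq_iff]
  push_cast
  rw [Int.modEq_iff_dvd]
  exact ⟨m - N, by linarith⟩

/-- the number `p^k` dividing the order of the centralizer divides the values of a character of `p`-defect zero -/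
theorem pow_dvd_normSq {q : ℕ} (hq : q.Prime) (χ : IrrCharacter G)
    (hdeg : (H75.deg χ).factorization q = (Nat.card G).factorization q) {x : G} {k : ℕ}
    (hk : q ^ k ∣ Nat.card (Subgroup.centralizer ({x} : Set G))) {N : ℕ} (hN : Complex.normSq ((χ : G → ℂ) x) = N) :
    q ^ (2 * k) ∣ N := by
  classical
  have := Fintype.ofFinite G
  set z := (χ : G → ℂ) x with hz
  set C := Subgroup.centralizer ({x} : Set G) with hC
  have hd0 := H75.deg_pos χ
  obtain ⟨c', hc'⟩ := hk
  have hG0 : Nat.card G ≠ 0 := Nat.card_pos.ne'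
  set a := (Nat.card G).factorization q with ha
  have hg' : q ^ a * (Nat.card G / q ^ a) = Nat.card G := Nat.ordProj_mul_ordCompl_eq_self _ q
  have hd' : q ^ a * (H75.deg χ / q ^ a) = H75.deg χ := by
    rw [← hdeg]; exact Nat.ordProj_mul_ordCompl_eq_self _ q
  have hcop : Nat.Coprime (q ^ k) (Nat.card G / q ^ a) := (Nat.coprime_ordCompl hq hG0).pow_left k
  set g' := Nat.card G / q ^ a with hgdef
  set d' := H75.deg χ / q ^ a with hddef
  have hq0 : (q : ℂ) ≠ 0 := by exact_mod_cast hq.ne_zero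
  have hidx : (C.index : ℂ) * ((q : ℂ) ^ k * c') = (q : ℂ) ^ a * g' := by
    have h1 := Subgroup.index_mul_card C
    rw [hc', ← hg'] at h1
    exact_mod_cast h1
  have hc0 : (c' : ℂ) ≠ 0 := by
    have : Nat.card C ≠ 0 := Nat.card_pos.ne'
    rw [hc'] at this
    exact_mod_cast (Nat.mul_ne_zero_iff.1 this).2
  have hd'0 : (d' : ℂ) ≠ 0 := by
    have : H75.deg χ ≠ 0 := hd0.ne'
    rw [← hd'] at this
    exact_mod_cast (Nat.mul_ne_zero_iff.1 this).2
  have hI : IsIntegral ℤ (((g' : ℕ) : ℂ) * z / (q : ℂ) ^ k) := by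
    have h1 := isIntegral_centralChar χ.2 x
    have h2 : IsIntegral ℤ (((c' * d' : ℕ) : ℂ)) := isIntegral_natCast _
    have h3 := h2.mul h1
    have h4 : ((c' * d' : ℕ) : ℂ) * ((C.index : ℂ) * z / (χ : G → ℂ) 1) = ((g' : ℕ) : ℂ) * z / (q : ℂ) ^ k := by
      rw [H75.deg_spec, ← hd']
      push_cast
      have hqa : (q : ℂ) ^ a ≠ 0 := pow_ne_zero _ hq0
      have hqk : (q : ℂ) ^ k ≠ 0 := pow_ne_zero _ hq0
      field_simp
      linear_combination z * hidx
    rw [← h4]
    exact h3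
  have hzI : IsIntegral ℤ z := irr_isIntegral χ x
  have hw : IsIntegral ℤ (z / (q : ℂ) ^ k) := by
    obtain ⟨u, v, huv⟩ : ∃ u v : ℤ, u * (q ^ k : ℕ) + v * (g' : ℕ) = 1 := by
      have := (Nat.isCoprime_iff_coprime.2 hcop)
      obtain ⟨u, v, h⟩ := this
      exact ⟨u, v, h⟩
    have hqk : (q : ℂ) ^ k ≠ 0 := pow_ne_zero _ hq0
    have h5 : z / (q : ℂ) ^ k = (u : ℂ) * z + (v : ℂ) * (((g' : ℕ) : ℂ) * z / (q : ℂ) ^ k) := by
      have h6 : (u : ℂ) * (q : ℂ) ^ k + (v : ℂ) * g' = 1 := by exact_mod_cast huv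
      field_simp
      linear_combination -z * h6
    rw [h5]
    exact ((isIntegral_intCast _).mul hzI).add ((isIntegral_intCast _).mul hI)
  have hwc : IsIntegral ℤ (conj (z / (q : ℂ) ^ k)) := hw.map (starRingEnd ℂ).toIntAlgHom
  have h6 : (z / (q : ℂ) ^ k) * conj (z / (q : ℂ) ^ k) = (((N : ℚ) / q ^ (2 * k) : ℚ) : ℂ) := by
    rw [Complex.mul_conj, map_div₀, hN]
    push_cast
    rw [map_pow, Complex.normSq_natCast]
    push_cast
    ring
  obtain ⟨n, hn⟩ := Cfsg.Agent.Char.FT.int_of_rat_isIntegral _ h6 (hw.mul hwc)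
  rw [h6] at hn
  have h7 : (N : ℚ) / q ^ (2 * k) = n := by exact_mod_cast hn
  have h8 : (q : ℚ) ^ (2 * k) ≠ 0 := pow_ne_zero _ (by exact_mod_cast hq.ne_zero)
  rw [div_eq_iff h8] at h7
  have h9 : (N : ℤ) = n * (q : ℤ) ^ (2 * k) := by exact_mod_cast h7
  have h10 : ((q ^ (2 * k) : ℕ) : ℤ) ∣ (N : ℤ) := ⟨n, by rw [h9]; push_cast; ring⟩
  exact_mod_cast h10

end Char

end Cfsg.Agent.H10.PrimeClass
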