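import Cfsg.Agent.H53.T3

set_option autoImplicit false
set_option linter.style.haveILetI false
set_option linter.unusedSectionVars false

namespace Cfsg.Agent.H53.D3

open scoped ComplexConjugate BigOperators commutatorElement
open Cfsg Cfsg.Agent.CharBase Cfsg.Agent.Char Cfsg.Agent.H75

universe u

variable {G : Type u} [Group G] [Finite G] {K L Y : Subgroup G} [hL : L.Normal] {p : ℕ}

theorem Core.s12_aux (c : Core G K L Y p) (hab : ∀ a ∈ ⁅L, L⁆, ∀ b ∈ ⁅L, L⁆, a * b = b * a)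
    (χ : IrrCharacter G) (hχ : p ∣ deg χ) : ∃ lam : ↥⁅L, L⁆ →* ℂˣ, lam ≠ 1 ∧ deg χ = (St ⁅L, L⁆ lam).index := by
  classical
  have hp := c.hyp.frob.hp
  haveI := Fintype.ofFinite G
  haveI := Fintype.ofFinite ↥⁅L, L⁆
  obtain ⟨θ, hθ⟩ := exists_under ⁅L, L⁆ χ
  have hθ1 : deg θ = 1 := by
    have h1 := irr_one_of_comm (G := ↥⁅L, L⁆) (fun a b => Subtype.ext (hab a a.2 b b.2)) θ
    rw [deg_spec] at h1
    exact_mod_cast h1
  obtain ⟨lam, hlam⟩ := linIrr_surj θ hθ1
  subst hlam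
  have hχ1 : deg χ ≠ 1 := by
    intro h
    rw [h] at hχ
    exact hp.one_lt.ne' (Nat.dvd_one.mp hχ)
  by_cases hl : lam = 1
  · exfalso
    subst hl
    have hcop : (deg χ).Coprime L.index := by
      rcases c.hyp.tri χ with h1 | h1 | h1
      · exact absurd h1 hχ1
      · exact absurd (h1 ▸ hχ) c.hyp.frob.hpi
      · exact h1.2
    have hirr := restrict_irr (N := L) χ hcop
    have hconst := irr_const_of_classInner_ne_zero ⁅L, L⁆ χ.2 (by
      have h1 := (over_iff ⁅L, L⁆ χ _).1 hθ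
      have h2 : ((linIrr (1 : ↥⁅L, L⁆ →* ℂˣ) : IrrCharacter ↥⁅L, L⁆) : ↥⁅L, L⁆ → ℂ) = fun _ => 1 := by
        funext x
        rw [linIrr_apply]; rfl
      rw [h2] at h1
      exact h1)
    obtain ⟨β, hβ, hβe⟩ := exists_deflate_irr (commutator L) hirr (by
      intro n hn
      rw [← comm_subgroupOf, Subgroup.mem_subgroupOf] at hn
      have := hconst ⟨n, hn⟩ 1
      rw [mul_one] at this
      exact this)
    have h1 := irr_one_of_comm (G := L ⧸ commutator L) (fun a b => by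
      induction a using QuotientGroup.induction_on with
      | H a =>
        induction b using QuotientGroup.induction_on with
        | H b =>
          rw [← QuotientGroup.mk_mul, ← QuotientGroup.mk_mul, QuotientGroup.eq]
          have h2 : (a * b)⁻¹ * (b * a) = ⁅b⁻¹, a⁻¹⁆ := by
            rw [commutatorElement_def]; group
          rw [h2]
          exact Subgroup.commutator_mem_commutator (Subgroup.mem_top _) (Subgroup.mem_top _)) ⟨β, hβ⟩
    have h2 := hβe 1
    rw [QuotientGroup.mk_one] at h2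
    have h3 : (χ : G → ℂ) 1 = 1 := by
      have h4 : β 1 = 1 := h1
      rw [h4] at h2
      exact h2.symm
    rw [deg_spec] at h3
    exact hχ1 (by exact_mod_cast h3)
  · refine ⟨lam, hl, ?_⟩
    obtain ⟨⟨χ', h1, h2, -⟩, -, -⟩ := c.hyp.deg_G ⁅L, L⁆ Y le_rfl c.h1 c.h2 lam hl _ rfl
    have h3 := hθ.inertia_dvd
    rw [deg_linIrr, mul_one] at h3
    rw [← c.hyp.ndad χ' χ h1 (by rw [h2]; exact h3), h2]

theorem Core.s12 (c : Core G K L Y p) (hab : ∀ a ∈ ⁅L, L⁆, ∀ b ∈ ⁅L, L⁆, a * b = b * a)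
    (hne : ⁅L, L⁆ ≠ ⊥) (χ ψ : IrrCharacter G) (hχ : p ∣ deg χ) (hψ : p ∣ deg ψ) : deg χ = deg ψ := by
  obtain ⟨lam, hl, h1⟩ := c.s12_aux hab χ hχ
  obtain ⟨mu, hm, h2⟩ := c.s12_aux hab ψ hψ
  have h3 := c.stab_eq lam mu hl hm
  have key : ∀ lam : ↥⁅L, L⁆ →* ℂˣ, lam ≠ 1 →
      (St ⁅L, L⁆ lam).index * Nat.card ↥(L ⊓ St ⁅L, L⁆ lam) = Nat.card L := by
    intro lam hl
    obtain ⟨-, h4, -⟩ := c.hyp.deg_G ⁅L, L⁆ Y le_rfl c.h1 c.h2 lam hl _ rfl
    change L ⊔ St ⁅L, L⁆ lam = ⊤ at h4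
    generalize St ⁅L, L⁆ lam = S at h4 ⊢
    have e1 : L.index = L.relIndex S := by
      have := Subgroup.relIndex_sup_left S L
      rw [h4, Subgroup.relIndex_top_right] at this
      exact this
    have e2 := L.card_mul_index
    have e3 := S.card_mul_index
    have e4 : Nat.card ↥(L ⊓ S) * L.relIndex S = Nat.card S := by
      have := Subgroup.relIndex_mul_relIndex ⊥ (L ⊓ S) S bot_le inf_le_right
      rwa [Subgroup.relIndex_bot_left, Subgroup.relIndex_bot_left, Subgroup.inf_relIndex_right] at this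
    have e5 : 0 < Nat.card S := Nat.card_pos
    apply Nat.eq_of_mul_eq_mul_left e5
    calc Nat.card S * (S.index * Nat.card ↥(L ⊓ S)) = (Nat.card S * S.index) * Nat.card ↥(L ⊓ S) := by ring
      _ = (Nat.card L * L.index) * Nat.card ↥(L ⊓ S) := by rw [e3, e2]
      _ = Nat.card L * (Nat.card ↥(L ⊓ S) * L.relIndex S) := by rw [e1]; ring
      _ = Nat.card S * Nat.card L := by rw [e4]; ring
  have k1 := key lam hl
  have k2 := key mu hm
  rw [h3, ← k2] at k1
  rw [h1, h2]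
  exact Nat.eq_of_mul_eq_mul_right Nat.card_pos k1

end Cfsg.Agent.H53.D3
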